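import Mathlib

set_option autoImplicit false
open scoped BigOperators
open PowerSeries LaurentSeries

namespace Groth.Agent.Lib.Helper5.LExt

universe u

section
variable (R : Type u) [CommRing R]

theorem coe_injective : Function.Injective (algebraMap R⟦X⟧ R⸨X⸩) :=
  HahnSeries.ofPowerSeries_injective

theorem isUnit_coe_X_pow (N : ℕ) : IsUnit (algebraMap R⟦X⟧ R⸨X⸩ (PowerSeries.X ^ N)) :=
  IsLocalization.map_units R⸨X⸩
    (⟨PowerSeries.X ^ N, ⟨N, rfl⟩⟩ : Submonoid.powers (PowerSeries.X : R⟦X⟧))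

theorem exists_mul_pow (f : R⸨X⸩) : ∃ (N : ℕ) (p : R⟦X⟧),
    f * algebraMap R⟦X⟧ R⸨X⸩ (PowerSeries.X ^ N) = algebraMap R⟦X⟧ R⸨X⸩ p := by
  obtain ⟨⟨p, ⟨_, N, rfl⟩⟩, h⟩ := IsLocalization.surj (Submonoid.powers (PowerSeries.X : R⟦X⟧)) f
  exact ⟨N, p, h⟩

end

theorem main (R : Type u) [CommRing R]
    (B : Type u) [CommRing B] [Algebra R⟦X⟧ B] [Algebra.FiniteType R⟦X⟧ B]
    (s : B →ₐ[R⟦X⟧] R⸨X⸩) :
    ∃ I : Ideal R, ∀ (R' : Type u) [CommRing R'] (φ : R →+* R') (θ : R⸨X⸩ →+* R'⸨X⸩),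
      θ.comp (algebraMap R⟦X⟧ R⸨X⸩) = (algebraMap R'⟦X⟧ R'⸨X⸩).comp (PowerSeries.map φ) →
      ((∃ s' : B →+* R'⟦X⟧, s'.comp (algebraMap R⟦X⟧ B) = PowerSeries.map φ ∧
          (algebraMap R'⟦X⟧ R'⸨X⸩).comp s' = θ.comp s.toRingHom) ↔ I ≤ RingHom.ker φ) := by
  classical
  obtain ⟨T, hT⟩ := (Algebra.FiniteType.out : (⊤ : Subalgebra R⟦X⟧ B).FG)
  choose N p hNp using fun b : B => exists_mul_pow R (s b)
  refine ⟨Ideal.span {r | ∃ b ∈ T, ∃ i < N b, r = PowerSeries.coeff i (p b)}, ?_⟩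
  intro R' _ φ θ hθ
  have hθ' : ∀ q : R⟦X⟧, θ (algebraMap R⟦X⟧ R⸨X⸩ q) = algebraMap R'⟦X⟧ R'⸨X⸩ (PowerSeries.map φ q) :=
    fun q => RingHom.congr_fun hθ q
  have hmapX : ∀ n : ℕ, PowerSeries.map φ (PowerSeries.X ^ n) = PowerSeries.X ^ n := by
    intro n; rw [map_pow, PowerSeries.map_X]
  constructor
  · rintro ⟨s', hs1, hs2⟩
    rw [Ideal.span_le]
    rintro r ⟨b, hb, i, hi, rfl⟩
    rw [SetLike.mem_coe, RingHom.mem_ker]
    have h1 : θ (s b) = algebraMap R'⟦X⟧ R'⸨X⸩ (s' b) := (RingHom.congr_fun hs2 b).symm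
    have h2 : PowerSeries.map φ (p b) = s' b * PowerSeries.X ^ (N b) := by
      apply coe_injective R'
      rw [← hθ', ← hNp b, map_mul, hθ', h1, hmapX, map_mul]
    have h3 := congrArg (PowerSeries.coeff i) h2
    rw [PowerSeries.coeff_map, PowerSeries.coeff_mul_X_pow', if_neg (by omega)] at h3
    exact h3
  · intro hI
    have hgen : ∀ b ∈ T, θ (s b) ∈ (algebraMap R'⟦X⟧ R'⸨X⸩).range := by
      intro b hb
      have hdvd : (PowerSeries.X : R'⟦X⟧) ^ (N b) ∣ PowerSeries.map φ (p b) := by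
        rw [PowerSeries.X_pow_dvd_iff]
        intro i hi
        rw [PowerSeries.coeff_map, ← RingHom.mem_ker]
        exact hI (Ideal.subset_span ⟨b, hb, i, hi, rfl⟩)
      obtain ⟨q, hq⟩ := hdvd
      refine ⟨q, ?_⟩
      have hu := isUnit_coe_X_pow R' (N b)
      apply hu.mul_left_injective
      simp only
      rw [← map_mul, mul_comm q, ← hq, ← hθ', ← hNp b, map_mul, hθ', hmapX]
    have hall : ∀ b : B, θ (s b) ∈ (algebraMap R'⟦X⟧ R'⸨X⸩).range := by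
      intro b
      have hb : b ∈ Algebra.adjoin R⟦X⟧ (T : Set B) := by rw [hT]; trivial
      induction hb using Algebra.adjoin_induction with
      | mem x hx => exact hgen x hx
      | algebraMap r =>
        rw [AlgHom.commutes, hθ']
        exact ⟨_, rfl⟩
      | add x y _ _ hx hy =>
        rw [map_add, map_add]
        exact Subring.add_mem _ hx hy
      | mul x y _ _ hx hy =>
        rw [map_mul, map_mul]
        exact Subring.mul_mem _ hx hy
    let e : R'⟦X⟧ ≃+* (algebraMap R'⟦X⟧ R'⸨X⸩).range :=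
      RingEquiv.ofBijective (algebraMap R'⟦X⟧ R'⸨X⸩).rangeRestrict
        ⟨fun a b h => coe_injective R' (congrArg Subtype.val h),
          (algebraMap R'⟦X⟧ R'⸨X⸩).rangeRestrict_surjective⟩
    let s0 : B →+* (algebraMap R'⟦X⟧ R'⸨X⸩).range :=
      (θ.comp s.toRingHom).codRestrict _ hall
    have he : ∀ y : (algebraMap R'⟦X⟧ R'⸨X⸩).range,
        algebraMap R'⟦X⟧ R'⸨X⸩ (e.symm y) = (y : R'⸨X⸩) := by
      intro y
      have := e.apply_symm_apply y
      exact congrArg Subtype.val this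
    refine ⟨e.symm.toRingHom.comp s0, ?_, ?_⟩
    · ext1 r
      apply coe_injective R'
      change algebraMap R'⟦X⟧ R'⸨X⸩ (e.symm (s0 (algebraMap R⟦X⟧ B r))) = _
      rw [he]
      change θ (s (algebraMap R⟦X⟧ B r)) = _
      rw [AlgHom.commutes, hθ']
    · ext1 b
      change algebraMap R'⟦X⟧ R'⸨X⸩ (e.symm (s0 b)) = _
      rw [he]
      rfl

end Groth.Agent.Lib.Helper5.LExt
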